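import Groth.Agent.ProEtWC.Core

/-!
# Covers by weakly contractible objects; sections of sheafifications on them
-/

set_option autoImplicit false
set_option backward.isDefEq.respectTransparency false
set_option backward.isDefEq.respectTransparency.types false
set_option maxHeartbeats 800000
universe u

namespace Groth.Agent.ProEtWC

open CategoryTheory Limits AlgebraicGeometry Opposite

variable {X : Scheme.{u}}

theorem isWContractible_of_ringEquiv {D D' : Type u} [CommRing D] [CommRing D'] (e : D ≃+* D')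
    (h : EtPBC.IsWContractible D) : EtPBC.IsWContractible D' := by
  intro B _ _ hff hwe
  letI : Algebra D B := ((algebraMap D' B).comp e.toRingHom).toAlgebra
  letI : Algebra D D' := e.toRingHom.toAlgebra
  haveI : IsScalarTower D D' B := IsScalarTower.of_algebraMap_eq' rfl
  haveI : Module.Flat D D' := RingHom.flat_algebraMap_iff.1 (RingHom.Flat.of_bijective e.bijective)
  haveI : Module.FaithfullyFlat D D' := Module.FaithfullyFlat.of_comap_surjective
    (fun p => ⟨PrimeSpectrum.comap e.symm.toRingHom p, by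
      rw [← PrimeSpectrum.comap_comp_apply]
      have : (e.symm.toRingHom.comp (algebraMap D D')) = RingHom.id D :=
        RingHom.ext fun x => e.symm_apply_apply x
      rw [this, PrimeSpectrum.comap_id]⟩)
  haveI : Algebra.Etale D D' := RingHom.etale_algebraMap.1 (RingHom.Etale.of_bijective e.bijective)
  haveI := hwe
  haveI := hff
  haveI : Module.FaithfullyFlat D B := Module.FaithfullyFlat.trans D D' B
  obtain ⟨r⟩ := h B inferInstance (Algebra.WeaklyEtale.trans D D' B)
  refine ⟨AlgHom.mk (e.toRingHom.comp r.toRingHom) fun a => ?_⟩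
  obtain ⟨d, rfl⟩ := e.surjective a
  exact congrArg e (r.commutes d)

/-- The coproduct of a family of pro-étale objects. -/
noncomputable abbrev sigmaObj {ι : Type u} (V : ι → X.ProEt) : X.ProEt :=
  haveI : WeaklyEtale (Sigma.desc fun i => (V i).hom) :=
    IsZariskiLocalAtSource.sigmaDesc (P := @WeaklyEtale) fun i => (V i).prop
  Scheme.ProEt.mk (Sigma.desc fun i => (V i).hom)

noncomputable abbrev sigmaIncl {ι : Type u} (V : ι → X.ProEt) (i : ι) : V i ⟶ sigmaObj V :=
  MorphismProperty.Over.homMk (Sigma.ι (fun i => (V i).left) i) (Sigma.ι_desc _ _)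

theorem sigmaIncl_mem {ι : Type u} (V : ι → X.ProEt) :
    Sieve.ofArrows V (sigmaIncl V) ∈ Scheme.ProEt.topology X (sigmaObj V) := by
  refine Precoverage.generate_mem_toGrothendieck ?_
  rw [Scheme.ProEt.precoverage, Precoverage.mem_comap_iff, Presieve.map_ofArrows]
  refine Scheme.zariskiPrecoverage_le_propQCPrecoverage _ ?_
  exact (sigmaOpenCover fun i => (V i).left).mem₀

theorem isWC_sigmaObj {ι : Type u} (V : ι → X.ProEt) (h : ∀ i, ProEtS.IsWC (V i)) :
    ProEtS.IsWC (sigmaObj V) := by
  intro F G φ hφ s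
  choose t ht using fun i => h i F G φ hφ (G.obj.map (sigmaIncl V i).op s)
  have hS := (Presieve.isSheafFor_iff_generate _).2
    ((isSheaf_iff_isSheaf_of_type _ _).1 F.property _ (sigmaIncl_mem V))
  rw [Presieve.isSheafFor_arrows_iff] at hS
  obtain ⟨s', hs', -⟩ := hS t fun i j Z a b e => by
    rcases eq_or_ne i j with rfl | hij
    · have : a = b := (Scheme.ProEt.forget X ⋙ Over.forget X).map_injective
        ((cancel_mono (Sigma.ι (fun i => (V i).left) i)).1 (congrArg (fun f => f.left) e))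
      rw [this]
    · haveI : IsEmpty Z.left := isEmpty_of_commSq_sigmaι_of_ne (g := fun i => (V i).left)
        (Z := Z.left) (a := a.left) (b := b.left) ⟨congrArg (fun f => f.left) e⟩ hij
      exact (subsingleton_empty F Z).elim _ _
  refine ⟨s', ?_⟩
  refine ((isSheaf_iff_isSheaf_of_type _ _).1 G.property _ (sigmaIncl_mem V)).isSeparatedFor.ext ?_
  rintro Z f ⟨Y, a, b, ⟨i⟩, rfl⟩
  rw [op_comp, Functor.map_comp, ConcreteCategory.comp_apply, ConcreteCategory.comp_apply]
  refine congrArg _ ?_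
  rw [← NatTrans.naturality_apply, hs' i]
  exact ht i

/-- An affine pro-étale object with w-contractible ring of functions over an affine one. -/
theorem exists_wContr_over (U : X.ProEt) [IsAffine U.left] :
    ∃ (V : X.ProEt) (g : V ⟶ U), IsAffine V.left ∧ Surjective g.left ∧
      EtPBC.IsWContractible ↥(Γ(V.left, ⊤)) := by
  obtain ⟨D, _, _, hff, hind, hD⟩ := WLocalLib.exists_wContractible_cover ↥(Γ(U.left, ⊤))
  haveI hwe : Algebra.WeaklyEtale ↥(Γ(U.left, ⊤)) D := ProEtLib2.weaklyEtale_of_isIndEtale hind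
  haveI := hff
  haveI : WeaklyEtale (Spec.map (CommRingCat.ofHom (algebraMap ↥(Γ(U.left, ⊤)) D))) :=
    { flat := (HasRingHomProperty.Spec_iff (P := @Flat)).2 (RingHom.flat_algebraMap_iff.2 hwe.flat)
      flat_diagonal := by
        rw [diagonal_SpecMap, MorphismProperty.cancel_right_of_respectsIso @Flat,
          HasRingHomProperty.Spec_iff (P := @Flat)]
        exact hwe.flat_lmul' }
  haveI : Surjective (Spec.map (CommRingCat.ofHom (algebraMap ↥(Γ(U.left, ⊤)) D))) :=
    ⟨PrimeSpectrum.comap_surjective_of_faithfullyFlat⟩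
  let f : Spec (CommRingCat.of D) ⟶ U.left :=
    Spec.map (CommRingCat.ofHom (algebraMap ↥(Γ(U.left, ⊤)) D)) ≫ U.left.isoSpec.inv
  haveI : WeaklyEtale f := inferInstance
  let V : X.ProEt := Scheme.ProEt.mk (f ≫ U.hom)
  let g : V ⟶ U := MorphismProperty.Over.homMk f
  refine ⟨V, g, inferInstanceAs (IsAffine (Spec _)), inferInstanceAs (Surjective f), ?_⟩
  exact isWContractible_of_ringEquiv (Scheme.ΓSpecIso (CommRingCat.of D)).symm.commRingCatIsoToRingEquiv hD

/-- A piece of the affine cover. -/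
noncomputable abbrev coverObj (U : X.ProEt) (i : U.left.affineCover.I₀) : X.ProEt :=
  Scheme.ProEt.mk (U.left.affineCover.f i ≫ U.hom)

noncomputable abbrev coverIncl (U : X.ProEt) (i : U.left.affineCover.I₀) : coverObj U i ⟶ U :=
  MorphismProperty.Over.homMk (U.left.affineCover.f i)

theorem exists_wContr_family (U : X.ProEt) {κ : Type u} (c : κ → U.left.affineCover.I₀)
    (hc : ∀ x : U.left, ∃ k, x ∈ Set.range (U.left.affineCover.f (c k))) :
    ∃ (V : κ → X.ProEt) (g : ∀ k, V k ⟶ U),
      Sieve.ofArrows V g ∈ Scheme.ProEt.topology X U ∧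
        ∀ k, IsAffine (V k).left ∧ EtPBC.IsWContractible ↥(Γ((V k).left, ⊤)) := by
  haveI : ∀ k, IsAffine (coverObj U (c k)).left := fun k => inferInstanceAs (IsAffine (U.left.affineCover.X _))
  choose V g hV hg hW using fun k => exists_wContr_over (coverObj U (c k))
  refine ⟨V, fun k => g k ≫ coverIncl U (c k), ?_, fun k => ⟨hV k, hW k⟩⟩
  have hmem : Sieve.ofArrows (fun k => coverObj U (c k)) (fun k => coverIncl U (c k)) ∈
      Scheme.ProEt.topology X U := by
    refine Precoverage.generate_mem_toGrothendieck ?_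
    rw [Scheme.ProEt.precoverage, Precoverage.mem_comap_iff, Presieve.map_ofArrows]
    refine Scheme.zariskiPrecoverage_le_propQCPrecoverage _ ?_
    exact (Scheme.ofArrows_mem_precoverage_iff _).2
      ⟨hc, fun k => (inferInstance : IsOpenImmersion (U.left.affineCover.f (c k)))⟩
  refine (Scheme.ProEt.topology X).transitive hmem _ ?_
  rintro Z f ⟨Y, a, b, ⟨k⟩, rfl⟩
  rw [Sieve.pullback_comp]
  refine (Scheme.ProEt.topology X).pullback_stable a ?_
  haveI := hV k
  haveI := hg k
  refine GrothendieckTopology.superset_covering _ ?_ (singleton_mem (g k))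
  rw [Sieve.generate_le_iff]
  rintro W h ⟨⟩
  exact Sieve.ofArrows_mk _ (fun k => g k ≫ coverIncl U (c k)) k

theorem exists_cover_wContractible (U : X.ProEt) :
    ∃ (ι : Type u) (V : ι → X.ProEt) (g : ∀ i, V i ⟶ U),
      Sieve.generate (Presieve.ofArrows V g) ∈ Scheme.ProEt.topology X U ∧
        ∀ i, IsAffine (V i).left ∧ EtPBC.IsWContractible ↥(Γ((V i).left, ⊤)) := by
  obtain ⟨V, g, h1, h2⟩ := exists_wContr_family U (κ := U.left.affineCover.I₀) id
    fun x => ⟨U.left.affineCover.idx x, U.left.affineCover.covers x⟩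
  exact ⟨_, V, g, h1, h2⟩

theorem sigma_singleton_mem {ι : Type u} {U : X.ProEt} (V : ι → X.ProEt) (g : ∀ i, V i ⟶ U)
    (h : Sieve.ofArrows V g ∈ Scheme.ProEt.topology X U) :
    ∃ q : sigmaObj V ⟶ U, Sieve.generate (Presieve.singleton q) ∈ Scheme.ProEt.topology X U := by
  refine ⟨MorphismProperty.Over.homMk (Sigma.desc fun i => (g i).left) (Sigma.hom_ext _ _ fun i => ?_), ?_⟩
  · rw [Sigma.ι_desc_assoc]
    exact (Over.w (g i).hom).trans (Sigma.ι_desc (fun i => (V i).hom) i).symm
  refine GrothendieckTopology.superset_covering _ ?_ h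
  rw [Sieve.ofArrows, Sieve.generate_le_iff]
  rintro W f ⟨i⟩
  exact ⟨sigmaObj V, sigmaIncl V i, _, Presieve.singleton_self _,
    (Scheme.ProEt.forget X ⋙ Over.forget X).map_injective (Sigma.ι_desc _ _)⟩

theorem exists_cover_isWC (U : X.ProEt) :
    ∃ (V : X.ProEt) (g : V ⟶ U),
      Sieve.generate (Presieve.singleton g) ∈ Scheme.ProEt.topology X U ∧ ProEtS.IsWC V := by
  obtain ⟨ι, V, g, h1, h2⟩ := exists_cover_wContractible U
  obtain ⟨q, hq⟩ := sigma_singleton_mem V g h1
  exact ⟨_, q, hq, isWC_sigmaObj V fun i => (haveI := (h2 i).1; isWC_of_isWContractible (h2 i).2)⟩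

theorem exists_cover_affine_isWC (U : X.ProEt) [CompactSpace ↥U.left] :
    ∃ (V : X.ProEt) (g : V ⟶ U),
      Sieve.generate (Presieve.singleton g) ∈ Scheme.ProEt.topology X U ∧ IsAffine V.left ∧
        ProEtS.IsWC V := by
  obtain ⟨t, ht⟩ := isCompact_univ.elim_finite_subcover
    (fun i : U.left.affineCover.I₀ => Set.range (U.left.affineCover.f i))
    (fun i => (U.left.affineCover.f i).opensRange.2)
    (fun x _ => Set.mem_iUnion.2 ⟨_, U.left.affineCover.covers x⟩)
  obtain ⟨V, g, h1, h2⟩ := exists_wContr_family U (κ := {i // i ∈ t}) Subtype.val fun x => by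
    obtain ⟨i, hi, hx⟩ := Set.mem_iUnion₂.1 (ht (Set.mem_univ x))
    exact ⟨⟨i, hi⟩, hx⟩
  obtain ⟨q, hq⟩ := sigma_singleton_mem V g h1
  haveI : ∀ i, IsAffine (V i).left := fun i => (h2 i).1
  exact ⟨_, q, hq, inferInstanceAs (IsAffine (∐ fun i => (V i).left)),
    isWC_sigmaObj V fun i => isWC_of_isWContractible (h2 i).2⟩

/-- A disjoint decomposition into opens is a coproduct in the pro-étale site. -/
noncomputable def isColimitPieces {U : X.ProEt} {n : ℕ} (W : Fin n → U.left.Opens)
    (hd : Pairwise (fun k l => Disjoint (W k : Set ↥U.left) (W l)))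
    (hc : (⋃ k, (W k : Set ↥U.left)) = Set.univ) :
    IsColimit (Cofan.mk U fun k => opIncl U (W k)) := by
  have hex : ∀ s : Cofan fun k => opObj U (W k), ∃! q : U ⟶ s.pt, ∀ k, opIncl U (W k) ≫ q = s.inj k := by
    intro s
    let 𝒰 : U.left.OpenCover := Scheme.Cover.mkOfCovers (Fin n) (fun k => (W k).toScheme) (fun k => (W k).ι)
      (fun x => by
        obtain ⟨k, hk⟩ := Set.mem_iUnion.1 (hc.symm ▸ Set.mem_univ x : x ∈ ⋃ k, (W k : Set ↥U.left))
        exact ⟨k, ⟨x, hk⟩, rfl⟩)
      (fun k => inferInstance)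
    have hcomp : ∀ k l : Fin n, pullback.fst (W k).ι (W l).ι ≫ (s.inj k).left =
        pullback.snd (W k).ι (W l).ι ≫ (s.inj l).left := by
      intro k l
      rcases eq_or_ne k l with rfl | hkl
      · rw [show pullback.fst (W k).ι (W k).ι = pullback.snd (W k).ι (W k).ι from
          (cancel_mono (W k).ι).1 pullback.condition]
      · haveI : IsEmpty ↥(pullback (W k).ι (W l).ι) := ⟨fun z => Set.disjoint_left.1 (hd hkl)
          ((pullback.fst (W k).ι (W l).ι) z).2 (by
            have e' := congrArg (fun m => m z) (pullback.condition (f := (W k).ι) (g := (W l).ι))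
            change ((pullback.fst (W k).ι (W l).ι) z).1 = ((pullback.snd (W k).ι (W l).ι) z).1 at e'
            rw [e']
            exact ((pullback.snd (W k).ι (W l).ι) z).2)⟩
        exact isInitialOfIsEmpty.hom_ext _ _
    have hw : 𝒰.glueMorphisms (fun k => (s.inj k).left) hcomp ≫ s.pt.hom = U.hom := 𝒰.hom_ext _ _ fun k => by
      rw [Scheme.Cover.ι_glueMorphisms_assoc]
      exact Over.w (s.inj k).hom
    refine ⟨MorphismProperty.Over.homMk (𝒰.glueMorphisms (fun k => (s.inj k).left) hcomp) hw, fun k => ?_,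
      fun q hq => ?_⟩
    · exact (Scheme.ProEt.forget X ⋙ Over.forget X).map_injective (Scheme.Cover.ι_glueMorphisms 𝒰 _ hcomp k)
    · refine (Scheme.ProEt.forget X ⋙ Over.forget X).map_injective (𝒰.hom_ext _ _ fun k => ?_)
      exact (congrArg (fun f => f.left) (hq k)).trans (Scheme.Cover.ι_glueMorphisms 𝒰 _ hcomp k).symm
  exact mkCofanColimit _ (fun s => (hex s).exists.choose) (fun s k => (hex s).exists.choose_spec k)
    (fun s m hm => (hex s).unique hm (hex s).exists.choose_spec)

theorem existsUnique_pieces (F : X.ProEtᵒᵖ ⥤ Type (u + 1)) [PreservesFiniteProducts F] {U : X.ProEt} {n : ℕ}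
    (W : Fin n → U.left.Opens) (hd : Pairwise (fun k l => Disjoint (W k : Set ↥U.left) (W l)))
    (hc : (⋃ k, (W k : Set ↥U.left)) = Set.univ) (t : ∀ k, F.obj (op (opObj U (W k)))) :
    ∃! s : F.obj (op U), ∀ k, F.map (opIncl U (W k)).op s = t k := by
  have hl := isLimitFanMkObjOfIsLimit F _ _ (Cofan.IsColimit.op (isColimitPieces W hd hc))
  obtain ⟨s, hs, hu⟩ := (Types.isLimit_iff _).1 ⟨hl⟩ (fun k => t k.as) (by
    rintro ⟨k⟩ ⟨l⟩ ⟨⟨h⟩⟩
    obtain rfl : k = l := h
    exact ConcreteCategory.congr_hom ((Discrete.functor fun j => F.obj (op (opObj U (W j)))).map_id ⟨k⟩) (t k))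
  exact ⟨s, fun k => hs ⟨k⟩, fun y hy => hu y fun j => hy j.as⟩

theorem toSheafify_bijective (F : X.ProEtᵒᵖ ⥤ Type (u + 1)) [PreservesFiniteProducts F] (U : X.ProEt)
    (hU : Splits U) : Function.Bijective ((toSheafify (Scheme.ProEt.topology X) F).app (op U)) := by
  let J := Scheme.ProEt.topology X
  let η := toSheafify J F
  refine ⟨fun x y h => ?_, fun s => ?_⟩
  · obtain ⟨n, W, -, hd, hc, hR⟩ := hU _ (Presheaf.equalizerSieve_mem J η x y h)
    exact (existsUnique_pieces F W hd hc (fun k => F.map (opIncl U (W k)).op x)).unique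
      (fun k => rfl) fun k => (hR k).symm
  · obtain ⟨n, W, -, hd, hc, hR⟩ := hU _ (Presheaf.imageSieve_mem J η s)
    choose t ht using hR
    obtain ⟨x, hx, -⟩ := existsUnique_pieces F W hd hc t
    refine ⟨x, ?_⟩
    refine ((isSheaf_iff_isSheaf_of_type _ _).1 ((presheafToSheaf J (Type (u + 1))).obj F).property _
      (ofArrows_opens_mem W hc)).isSeparatedFor.ext ?_
    rintro Z f ⟨Y, a, b, ⟨k⟩, rfl⟩
    rw [op_comp, Functor.map_comp, ConcreteCategory.comp_apply, ConcreteCategory.comp_apply]
    refine congrArg _ ?_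
    rw [← NatTrans.naturality_apply, hx k]
    exact ht k

end Groth.Agent.ProEtWC
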