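import Groth.Prelude.Def_EtModW
import Groth.Prelude.Def_ARSys
import Mathlib.CategoryTheory.Sites.Subsheaf
import Mathlib

/-!
# Quotient maps modulo an ideal on the pro-étale site
-/

set_option autoImplicit false
set_option backward.isDefEq.respectTransparency false
set_option backward.isDefEq.respectTransparency.types false
set_option maxHeartbeats 800000
universe u

namespace Groth.Agent.ProEtWC

open CategoryTheory Limits AlgebraicGeometry Opposite

variable {X : Scheme.{u}} {Λ : Type (u + 1)} [CommRing Λ] (I : Ideal Λ)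

/-- The presheaf `V ↦ F V / I • F V`. -/
noncomputable def quotPre (F : EtModW.ModP Λ X) : (X.ProEt)ᵒᵖ ⥤ ModuleCat.{u + 1} Λ where
  obj V := ModuleCat.of Λ (F.obj.obj V ⧸ (I • (⊤ : Submodule Λ (F.obj.obj V))))
  map f := ModuleCat.ofHom (Submodule.mapQ _ _ (F.obj.map f).hom (by
    rw [← Submodule.map_le_iff_le_comap, Submodule.map_smul'']
    exact Submodule.smul_mono le_rfl le_top))
  map_id V := by
    ext x
    simp
  map_comp f g := by
    ext x
    simp

noncomputable def quotMk (F : EtModW.ModP Λ X) : F.obj ⟶ quotPre I F where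
  app V := ModuleCat.ofHom (Submodule.mkQ _)

theorem killed_app {C : (X.ProEt)ᵒᵖ ⥤ ModuleCat.{u + 1} Λ} {D : EtModW.ModP Λ X} (φ : C ⟶ D.obj)
    {a : Λ} (h : (a • φ : C ⟶ D.obj) = 0) (V : (X.ProEt)ᵒᵖ) (x : C.obj V) : φ.app V (a • x) = 0 := by
  rw [map_smul]
  exact congrArg (fun m => (m.app V).hom x) h


theorem exists_sum_of_mem_smul {I : Ideal Λ} {r : ℕ} (a : Fin r → Λ) (ha : Submodule.span Λ (Set.range a) = I)
    {M : Type (u + 1)} [AddCommGroup M] [Module Λ M] {x : M} (h : x ∈ I • (⊤ : Submodule Λ M)) :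
    ∃ c : Fin r → M, ∑ k, a k • c k = x := by
  refine Submodule.smul_induction_on h (fun b hb n _ => ?_) ?_
  · obtain ⟨d, hd⟩ := (Submodule.mem_span_range_iff_exists_fun Λ).1 (ha.symm ▸ hb)
    refine ⟨fun k => d k • n, ?_⟩
    rw [← hd, Finset.sum_smul]
    exact Finset.sum_congr rfl fun k _ => by rw [smul_eq_mul, mul_comm, mul_smul]
  · rintro _ _ ⟨c, rfl⟩ ⟨c', rfl⟩
    exact ⟨c + c', by simp [smul_add, Finset.sum_add_distrib]⟩

variable {F Q : EtModW.ModP Λ X} (p : F ⟶ Q) (hp : ARSys.IsQuot I p)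
include hp

theorem app_smul_eq_zero (V : (X.ProEt)ᵒᵖ) {x : F.obj.obj V} (hx : x ∈ I • (⊤ : Submodule Λ (F.obj.obj V))) :
    p.hom.app V x = 0 := by
  refine Submodule.smul_induction_on hx (fun a ha z _ => ?_) (fun x y hx hy => by rw [map_add, hx, hy, add_zero])
  rw [map_smul]
  exact congrArg (fun m : Q ⟶ Q => (m.hom.app V).hom (p.hom.app V z)) (hp.1 a ha)

theorem epi_of_isQuot : Epi p where
  left_cancellation {Y} g g' h := (hp.2 Y (p ≫ g) fun a ha => by
    have : a • (p ≫ g) = p ≫ (a • 𝟙 Q) ≫ g := by simp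
    rw [this, hp.1 a ha, zero_comp, comp_zero]).unique rfl h.symm

theorem locally_mem_of_eq_zero {U : X.ProEt} (x : F.obj.obj (op U)) (hx : p.hom.app (op U) x = 0) :
    ∃ S ∈ Scheme.ProEt.topology X U, ∀ ⦃V⦄ (f : V ⟶ U), S f →
      F.obj.map f.op x ∈ I • (⊤ : Submodule Λ (F.obj.obj (op V))) := by
  let J := Scheme.ProEt.topology X
  let C : EtModW.ModP Λ X := (presheafToSheaf J (ModuleCat.{u + 1} Λ)).obj (quotPre I F)
  let q : F ⟶ C := ⟨quotMk I F ≫ toSheafify J (quotPre I F)⟩
  obtain ⟨ψ, hψ, -⟩ := hp.2 C q fun a ha => by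
    apply ObjectProperty.hom_ext
    ext V z
    show a • ((toSheafify J (quotPre I F)).app V (Submodule.Quotient.mk z)) = 0
    rw [← map_smul, ← Submodule.Quotient.mk_smul,
      (Submodule.Quotient.mk_eq_zero _).2 (Submodule.smul_mem_smul ha Submodule.mem_top), map_zero]
  have h0 : (toSheafify J (quotPre I F)).app (op U) (Submodule.Quotient.mk x) =
      (toSheafify J (quotPre I F)).app (op U) 0 := by
    have h1 := congrArg (fun m : F ⟶ C => (m.hom.app (op U)).hom x) hψ
    rw [map_zero]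
    refine h1.symm.trans ?_
    show ψ.hom.app (op U) (p.hom.app (op U) x) = 0
    rw [hx, map_zero]
  refine ⟨_, Presheaf.equalizerSieve_mem J (toSheafify J (quotPre I F)) (X := op U) _ _ h0, fun V f hf => ?_⟩
  exact (Submodule.Quotient.mk_eq_zero _).1 (hf.trans (map_zero _))

theorem surjective_of_isWC {U : X.ProEt} (hU : ProEtS.IsWC U) : Function.Surjective (p.hom.app (op U)).hom := by
  haveI := epi_of_isQuot I p hp
  haveI : Sheaf.IsLocallySurjective p := (Sheaf.isLocallySurjective_iff_epi' _ p).2 inferInstance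
  let φ := (sheafCompose (Scheme.ProEt.topology X) (forget (ModuleCat.{u + 1} Λ))).map p
  haveI : Sheaf.IsLocallySurjective φ :=
    ⟨fun {V} z => GrothendieckTopology.superset_covering _ (fun W f hf => hf)
      (Presheaf.imageSieve_mem (Scheme.ProEt.topology X) p.hom z)⟩
  exact hU _ _ φ ((Sheaf.isLocallySurjective_iff_epi' _ φ).1 inferInstance)

theorem mem_smul_of_isWC (hI : I.FG) {U : X.ProEt} (hU : ProEtS.IsWC U) (x : F.obj.obj (op U))
    (hx : p.hom.app (op U) x = 0) : x ∈ I • (⊤ : Submodule Λ (F.obj.obj (op U))) := by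
  let J := Scheme.ProEt.topology X
  obtain ⟨r, a, ha⟩ := Submodule.fg_iff_exists_fin_generating_family.1 hI
  let T : Sheaf J (Type (u + 1)) :=
    ⟨F.obj ⋙ coyoneda.obj (op (ModuleCat.of Λ (Fin r → Λ))),
      (isSheaf_iff_isSheaf_of_type _ _).2 (F.property (ModuleCat.of Λ (Fin r → Λ)))⟩
  let K : Subfunctor (F.obj ⋙ forget (ModuleCat.{u + 1} Λ)) :=
    { obj := fun V => {z : F.obj.obj V | p.hom.app V z = 0}
      map := fun {V W} f z (hz : p.hom.app V z = 0) => by
        show p.hom.app W (F.obj.map f z) = 0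
        rw [NatTrans.naturality_apply, hz, map_zero] }
  have hK : Presieve.IsSheaf J K.toFunctor := by
    rw [Subfunctor.isSheaf_iff K ((isSheaf_iff_isSheaf_of_type _ _).1
      ((sheafCompose J (forget (ModuleCat.{u + 1} Λ))).obj F).property)]
    intro V s hs
    show p.hom.app V s = 0
    refine ((isSheaf_iff_isSheaf_of_type _ _).1
      ((sheafCompose J (forget (ModuleCat.{u + 1} Λ))).obj Q).property _ hs).isSeparatedFor.ext fun W f hf => ?_
    show Q.obj.map f.op (p.hom.app V s) = Q.obj.map f.op 0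
    rw [map_zero, ← NatTrans.naturality_apply]
    exact hf
  let S : ∀ (V : (X.ProEt)ᵒᵖ), T.obj.obj V → K.toFunctor.obj V := fun V v =>
    ⟨∑ k, a k • v.hom (Pi.single k 1), by
      show p.hom.app V _ = 0
      refine app_smul_eq_zero I p hp V (Submodule.sum_mem _ fun k _ => ?_)
      exact Submodule.smul_mem_smul (ha ▸ Submodule.subset_span ⟨k, rfl⟩) Submodule.mem_top⟩
  let φ : T ⟶ ⟨K.toFunctor, (isSheaf_iff_isSheaf_of_type _ _).2 hK⟩ :=
    ⟨{ app := fun V => TypeCat.ofHom (S V)
       naturality := fun V W f => by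
        ext v
        apply Subtype.ext
        show ∑ k, a k • (F.obj.map f).hom (v.hom (Pi.single k 1)) =
          F.obj.map f (∑ k, a k • v.hom (Pi.single k 1))
        simp }⟩
  haveI : Sheaf.IsLocallySurjective φ := ⟨fun {V} z => by
    obtain ⟨R, hR, h⟩ := locally_mem_of_eq_zero I p hp z.1 z.2
    refine GrothendieckTopology.superset_covering _ (fun W f hf => ?_) hR
    have h' := h f hf
    obtain ⟨c, hc⟩ := exists_sum_of_mem_smul a ha h'
    refine ⟨ModuleCat.ofHom ((Pi.basisFun Λ (Fin r)).constr Λ c), ?_⟩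
    apply Subtype.ext
    show ∑ k, a k • (Pi.basisFun Λ (Fin r)).constr Λ c (Pi.single k 1) = F.obj.map f.op z.1
    rw [← hc]
    refine Finset.sum_congr rfl fun k _ => ?_
    rw [← Pi.basisFun_apply, Module.Basis.constr_basis]⟩
  obtain ⟨v, hv⟩ := hU _ _ φ ((Sheaf.isLocallySurjective_iff_epi' _ φ).1 inferInstance) ⟨x, hx⟩
  rw [← show ∑ k, a k • v.hom (Pi.single k 1) = x from congrArg Subtype.val hv]
  exact Submodule.sum_mem _ fun k _ => Submodule.smul_mem_smul (ha ▸ Submodule.subset_span ⟨k, rfl⟩) Submodule.mem_top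

end Groth.Agent.ProEtWC
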