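import Groth.Agent.ProEtWC.Covers
import Groth.Agent.ProEtSLib.Cont

/-!
# Left Kan extensions along base change, on weakly contractible objects
-/

set_option autoImplicit false
set_option backward.isDefEq.respectTransparency false
set_option backward.isDefEq.respectTransparency.types false
set_option maxHeartbeats 800000
universe u

namespace Groth.Agent.ProEtWC

open CategoryTheory Limits AlgebraicGeometry Opposite

variable {X Y : Scheme.{u}} (f : X ⟶ Y) (F : Y.ProEtᵒᵖ ⥤ Type (u + 1))

/-- The presheaf left Kan extended along base change. -/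
noncomputable abbrev lanP : X.ProEtᵒᵖ ⥤ Type (u + 1) := (ProEtS.bcP f).op.lan.obj F

/-- The class of a triple. -/
noncomputable def lanMk {W : X.ProEt} {V : Y.ProEt} (m : W ⟶ (ProEtS.bcP f).obj V) (s : F.obj (op V)) :
    (lanP f F).obj (op W) :=
  (lanP f F).map m.op (((ProEtS.bcP f).op.lanUnit.app F).app (op V) s)

theorem lanMk_map {W W' : X.ProEt} (g : W' ⟶ W) {V : Y.ProEt} (m : W ⟶ (ProEtS.bcP f).obj V) (s : F.obj (op V)) :
    (lanP f F).map g.op (lanMk f F m s) = lanMk f F (g ≫ m) s := by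
  simp [lanMk]

theorem lanMk_comp {W : X.ProEt} {V V' : Y.ProEt} (h : V' ⟶ V) (n : W ⟶ (ProEtS.bcP f).obj V')
    (s : F.obj (op V)) : lanMk f F (n ≫ (ProEtS.bcP f).map h) s = lanMk f F n (F.map h.op s) := by
  simp only [lanMk, op_comp, Functor.map_comp, ConcreteCategory.comp_apply]
  exact congrArg _ (NatTrans.naturality_apply ((ProEtS.bcP f).op.lanUnit.app F) h.op s).symm

theorem isFiltered_costructuredArrow (W : X.ProEt) :
    IsFiltered (CostructuredArrow (ProEtS.bcP f).op (op W)) :=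
  haveI := ProEtSLib.preservesFiniteLimits_bcP f
  haveI : RepresentablyFlat (ProEtS.bcP f) := flat_of_preservesFiniteLimits _
  IsFiltered.of_equivalence (structuredArrowOpEquivalence (ProEtS.bcP f) W)

theorem exists_lanMk {W : X.ProEt} (t : (lanP f F).obj (op W)) :
    ∃ (V : Y.ProEt) (m : W ⟶ (ProEtS.bcP f).obj V) (s : F.obj (op V)), lanMk f F m s = t := by
  obtain ⟨g, s, hs⟩ := Types.jointly_surjective _
    (Functor.isPointwiseLeftKanExtensionLeftKanExtensionUnit (ProEtS.bcP f).op F (op W)) t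
  exact ⟨g.left.unop, g.hom.unop, s, hs⟩

theorem lanMk_eq_iff {W : X.ProEt} {V : Y.ProEt} (m : W ⟶ (ProEtS.bcP f).obj V) (s s' : F.obj (op V))
    (h : lanMk f F m s = lanMk f F m s') :
    ∃ (V' : Y.ProEt) (k : V' ⟶ V) (n : W ⟶ (ProEtS.bcP f).obj V'),
      n ≫ (ProEtS.bcP f).map k = m ∧ F.map k.op s = F.map k.op s' := by
  haveI := isFiltered_costructuredArrow f W
  let g₀ : CostructuredArrow (ProEtS.bcP f).op (op W) := CostructuredArrow.mk (Y := op V) m.op
  obtain ⟨g, m₁, hm⟩ := (Types.FilteredColimit.isColimit_eq_iff'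
    (Functor.isPointwiseLeftKanExtensionLeftKanExtensionUnit (ProEtS.bcP f).op F (op W)) (i := g₀) s s').1 h
  exact ⟨g.left.unop, m₁.left.unop, g.hom.unop, congrArg Quiver.Hom.unop (CostructuredArrow.w m₁), hm⟩

theorem exists_common {W : X.ProEt} {V V' : Y.ProEt} (m : W ⟶ (ProEtS.bcP f).obj V)
    (m' : W ⟶ (ProEtS.bcP f).obj V') :
    ∃ (T : Y.ProEt) (a : T ⟶ V) (b : T ⟶ V') (n : W ⟶ (ProEtS.bcP f).obj T),
      n ≫ (ProEtS.bcP f).map a = m ∧ n ≫ (ProEtS.bcP f).map b = m' := by
  haveI := isFiltered_costructuredArrow f W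
  let g : CostructuredArrow (ProEtS.bcP f).op (op W) := CostructuredArrow.mk (Y := op V) m.op
  let g' : CostructuredArrow (ProEtS.bcP f).op (op W) := CostructuredArrow.mk (Y := op V') m'.op
  exact ⟨(IsFiltered.max g g').left.unop, (IsFiltered.leftToMax g g').left.unop,
    (IsFiltered.rightToMax g g').left.unop, (IsFiltered.max g g').hom.unop,
    congrArg Quiver.Hom.unop (CostructuredArrow.w (IsFiltered.leftToMax g g')),
    congrArg Quiver.Hom.unop (CostructuredArrow.w (IsFiltered.rightToMax g g'))⟩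

theorem existsUnique_pieces_lan (hF : Presieve.IsSheaf (Scheme.ProEt.topology Y) F) {U : X.ProEt} {n : ℕ}
    (W : Fin n → U.left.Opens) (hd : Pairwise (fun k l => Disjoint (W k : Set ↥U.left) (W l)))
    (hc : (⋃ k, (W k : Set ↥U.left)) = Set.univ) (t : ∀ k, (lanP f F).obj (op (opObj U (W k)))) :
    ∃! s : (lanP f F).obj (op U), ∀ k, (lanP f F).map (opIncl U (W k)).op s = t k := by
  let G : Sheaf (Scheme.ProEt.topology Y) (Type (u + 1)) := ⟨F, (isSheaf_iff_isSheaf_of_type _ _).2 hF⟩
  have hcol := isColimitPieces W hd hc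
  -- gluing over a coproduct
  have glue : ∀ (V : Fin n → Y.ProEt) (s : ∀ k, F.obj (op (V k))),
      ∃ x : F.obj (op (sigmaObj fun k : ULift.{u} (Fin n) => V k.down)),
        (∀ k, F.map (sigmaIncl (fun k : ULift.{u} (Fin n) => V k.down) ⟨k⟩).op x = s k) ∧
        ∀ y, (∀ k, F.map (sigmaIncl (fun k : ULift.{u} (Fin n) => V k.down) ⟨k⟩).op y = s k) → y = x := by
    intro V s
    have hS := (Presieve.isSheafFor_iff_generate _).2
      (hF _ (sigmaIncl_mem (X := Y) fun k : ULift.{u} (Fin n) => V k.down))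
    rw [Presieve.isSheafFor_arrows_iff] at hS
    obtain ⟨x, hx, hu⟩ := hS (fun k => s k.down) fun i j Z a b e => by
      rcases eq_or_ne i j with rfl | hij
      · have : a = b := (Scheme.ProEt.forget Y ⋙ Over.forget Y).map_injective
          ((cancel_mono (Sigma.ι (fun i : ULift.{u} (Fin n) => (V i.down).left) i)).1 (congrArg (fun f => f.left) e))
        rw [this]
      · haveI : IsEmpty Z.left := isEmpty_of_commSq_sigmaι_of_ne (g := fun i : ULift.{u} (Fin n) => (V i.down).left)
          (Z := Z.left) (a := a.left) (b := b.left) ⟨congrArg (fun f => f.left) e⟩ hij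
        exact (subsingleton_empty G Z).elim _ _
    exact ⟨x, fun k => hx ⟨k⟩, fun y hy => hu y fun k => hy k.down⟩
  choose V m s hs using fun k => exists_lanMk f F (t k)
  obtain ⟨x, hx, -⟩ := glue V s
  let M := Cofan.IsColimit.desc hcol
    fun k => m k ≫ (ProEtS.bcP f).map (sigmaIncl (fun k : ULift.{u} (Fin n) => V k.down) ⟨k⟩)
  refine ⟨lanMk f F M x, fun k => ?_, fun y hy => ?_⟩
  · dsimp only
    rw [lanMk_map, show opIncl U (W k) ≫ M = m k ≫ (ProEtS.bcP f).map _ from Cofan.IsColimit.fac hcol _ k,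
      lanMk_comp, hx k]
    exact hs k
  · obtain ⟨V', m', y', rfl⟩ := exists_lanMk f F y
    obtain ⟨T, a, b, p, hpa, hpb⟩ := exists_common f m' M
    rw [← hpa, lanMk_comp, ← hpb, lanMk_comp]
    have hk : ∀ k, lanMk f F (opIncl U (W k) ≫ p) (F.map a.op y') = lanMk f F (opIncl U (W k) ≫ p) (F.map b.op x) := by
      intro k
      rw [← lanMk_comp, ← lanMk_comp, Category.assoc, Category.assoc, hpa, hpb, ← lanMk_map, hy k,
        show opIncl U (W k) ≫ M = m k ≫ (ProEtS.bcP f).map _ from Cofan.IsColimit.fac hcol _ k, lanMk_comp, hx k]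
      exact (hs k).symm
    choose V₂ h nk hnk heq using fun k => lanMk_eq_iff f F _ _ _ (hk k)
    let hh : sigmaObj (fun k : ULift.{u} (Fin n) => V₂ k.down) ⟶ T :=
      MorphismProperty.Over.homMk (Sigma.desc fun k => (h k.down).left) (Sigma.hom_ext _ _ fun k => by
        rw [Sigma.ι_desc_assoc]
        exact (Over.w (h k.down).hom).trans (Sigma.ι_desc (fun k : ULift.{u} (Fin n) => (V₂ k.down).hom) k).symm)
    have hfac : ∀ k, sigmaIncl (fun k : ULift.{u} (Fin n) => V₂ k.down) ⟨k⟩ ≫ hh = h k := fun k =>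
      (Scheme.ProEt.forget Y ⋙ Over.forget Y).map_injective (Sigma.ι_desc _ _)
    let N := Cofan.IsColimit.desc hcol
      fun k => nk k ≫ (ProEtS.bcP f).map (sigmaIncl (fun k : ULift.{u} (Fin n) => V₂ k.down) ⟨k⟩)
    have hN : N ≫ (ProEtS.bcP f).map hh = p := Cofan.IsColimit.hom_ext hcol _ _ fun k => by
      show opIncl U (W k) ≫ N ≫ _ = opIncl U (W k) ≫ p
      rw [← Category.assoc, show opIncl U (W k) ≫ N = nk k ≫ (ProEtS.bcP f).map _ from Cofan.IsColimit.fac hcol _ k,
        Category.assoc, ← Functor.map_comp, hfac, hnk]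
    rw [← hN, lanMk_comp, lanMk_comp]
    refine congrArg _ ?_
    obtain ⟨z, -, hz⟩ := glue V₂ fun k => F.map (h k).op (F.map a.op y')
    refine (hz _ fun k => ?_).trans (hz _ fun k => ?_).symm
    · rw [← Functor.map_comp_apply, ← op_comp, hfac]
    · rw [← Functor.map_comp_apply, ← op_comp, hfac]
      exact (heq k).symm

theorem toSheafify_lan_bijective (hF : Presieve.IsSheaf (Scheme.ProEt.topology Y) F) (U : X.ProEt) (hU : Splits U) :
    Function.Bijective ((toSheafify (Scheme.ProEt.topology X) (lanP f F)).app (op U)) := by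
  let J := Scheme.ProEt.topology X
  let η := toSheafify J (lanP f F)
  refine ⟨fun x y h => ?_, fun s => ?_⟩
  · obtain ⟨n, W, -, hd, hc, hR⟩ := hU _ (Presheaf.equalizerSieve_mem J η x y h)
    exact (existsUnique_pieces_lan f F hF W hd hc (fun k => (lanP f F).map (opIncl U (W k)).op x)).unique
      (fun k => rfl) fun k => (hR k).symm
  · obtain ⟨n, W, -, hd, hc, hR⟩ := hU _ (Presheaf.imageSieve_mem J η s)
    choose t ht using hR
    obtain ⟨x, hx, -⟩ := existsUnique_pieces_lan f F hF W hd hc t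
    refine ⟨x, ?_⟩
    refine ((isSheaf_iff_isSheaf_of_type _ _).1 ((presheafToSheaf J (Type (u + 1))).obj (lanP f F)).property _
      (ofArrows_opens_mem W hc)).isSeparatedFor.ext ?_
    rintro Z g ⟨Y', a, b, ⟨k⟩, rfl⟩
    rw [op_comp, Functor.map_comp, ConcreteCategory.comp_apply, ConcreteCategory.comp_apply]
    refine congrArg _ ?_
    rw [← NatTrans.naturality_apply, hx k]
    exact ht k

end Groth.Agent.ProEtWC
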