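import Groth.Agent.S7284
import Groth.Agent.WLocalLib.WContrConstr
import Groth.Agent.WLocalLib.WeakEtaleScheme
import Groth.Prelude.Def_PBC

/-!
# Weakly contractible objects of the small pro-étale site
-/

set_option autoImplicit false
set_option backward.isDefEq.respectTransparency false
set_option backward.isDefEq.respectTransparency.types false
set_option maxHeartbeats 800000
universe u

namespace Groth.Agent.ProEtWC

open CategoryTheory Limits AlgebraicGeometry Opposite

variable {X : Scheme.{u}}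

/-- The open subscheme `W` of `U` as an object of the pro-étale site. -/
noncomputable abbrev opObj (U : X.ProEt) (W : U.left.Opens) : X.ProEt :=
  haveI : WeaklyEtale U.hom := U.prop
  Scheme.ProEt.mk (W.ι ≫ U.hom)

noncomputable abbrev opIncl (U : X.ProEt) (W : U.left.Opens) : opObj U W ⟶ U :=
  MorphismProperty.Over.homMk W.ι

instance (U : X.ProEt) : WeaklyEtale U.hom := U.prop

theorem weaklyEtale_left {U V : X.ProEt} (g : V ⟶ U) : WeaklyEtale g.left := by
  haveI : WeaklyEtale (g.left ≫ U.hom) := by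
    rw [show g.left ≫ U.hom = V.hom from Over.w g.hom]
    exact V.prop
  exact WeaklyEtale.of_comp g.left U.hom

/-- A covering sieve refined by a disjoint decomposition into open and closed pieces. -/
def Splits (U : X.ProEt) : Prop :=
  ∀ R ∈ Scheme.ProEt.topology X U, ∃ (n : ℕ) (W : Fin n → U.left.Opens),
    (∀ k, IsClopen ((W k : Set ↥U.left))) ∧
    Pairwise (fun k l => Disjoint (W k : Set ↥U.left) (W l)) ∧
    (⋃ k, (W k : Set ↥U.left)) = Set.univ ∧ ∀ k, R.arrows (opIncl U (W k))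

/-- A jointly surjective family of opens covers. -/
theorem ofArrows_opens_mem {U : X.ProEt} {ι : Type*} (W : ι → U.left.Opens)
    (h : (⋃ k, (W k : Set ↥U.left)) = Set.univ) :
    Sieve.ofArrows (fun k => opObj U (W k)) (fun k => opIncl U (W k)) ∈ Scheme.ProEt.topology X U := by
  refine Precoverage.generate_mem_toGrothendieck ?_
  rw [Scheme.ProEt.precoverage, Precoverage.mem_comap_iff, Presieve.map_ofArrows]
  refine Scheme.zariskiPrecoverage_le_propQCPrecoverage _ ?_
  refine (Scheme.ofArrows_mem_precoverage_iff _).2 ⟨fun x => ?_, fun k => ?_⟩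
  · have hx : x ∈ ⋃ k, (W k : Set ↥U.left) := h.symm ▸ Set.mem_univ x
    obtain ⟨k, hk⟩ := Set.mem_iUnion.1 hx
    exact ⟨k, ⟨⟨x, hk⟩, rfl⟩⟩
  · exact (inferInstance : IsOpenImmersion (W k).ι)

/-- Sections over an empty scheme are unique. -/
theorem subsingleton_empty (F : Sheaf (Scheme.ProEt.topology X) (Type (u + 1))) (Z : X.ProEt)
    [IsEmpty Z.left] : Subsingleton (F.obj.obj (op Z)) := by
  refine ⟨fun a b => ?_⟩
  exact ((isSheaf_iff_isSheaf_of_type _ _).1 F.property ⊥ (Scheme.ProEt.bot_mem_topology Z)).isSeparatedFor.ext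
    fun _ f hf => hf.elim

/-- Gluing along a disjoint decomposition. -/
theorem exists_glue (F : Sheaf (Scheme.ProEt.topology X) (Type (u + 1))) {U : X.ProEt} {ι : Type} (W : ι → U.left.Opens)
    (hd : Pairwise (fun k l => Disjoint (W k : Set ↥U.left) (W l)))
    (h : (⋃ k, (W k : Set ↥U.left)) = Set.univ) (t : ∀ k, F.obj.obj (op (opObj U (W k)))) :
    ∃ s : F.obj.obj (op U), ∀ k, F.obj.map (opIncl U (W k)).op s = t k := by
  have hS := (Presieve.isSheafFor_iff_generate _).2
    ((isSheaf_iff_isSheaf_of_type _ _).1 F.property _ (ofArrows_opens_mem W h))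
  rw [Presieve.isSheafFor_arrows_iff] at hS
  refine (hS t fun k l Z a b e => ?_).exists
  rcases eq_or_ne k l with rfl | hkl
  · have : a = b := (Scheme.ProEt.forget X ⋙ Over.forget X).map_injective
      ((cancel_mono (W k).ι).1 (congrArg (fun f => f.left) e))
    rw [this]
  · haveI : IsEmpty Z.left := ⟨fun z => Set.disjoint_left.1 (hd hkl) (a.left z).2 (by
      have e' := congrArg (fun f : Z ⟶ U => f.left z) e
      change ((a.left z).1 : ↥U.left) = (b.left z).1 at e'
      rw [e']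
      exact (b.left z).2)⟩
    exact (subsingleton_empty F Z).elim _ _

theorem isWC_of_splits {U : X.ProEt} (h : Splits U) : ProEtS.IsWC U := by
  intro F G φ hφ s
  haveI : Sheaf.IsLocallySurjective φ := (Sheaf.isLocallySurjective_iff_epi' _ φ).2 hφ
  obtain ⟨n, W, -, hd, hc, hR⟩ :=
    h _ (Presheaf.imageSieve_mem (Scheme.ProEt.topology X) φ.hom s)
  choose t ht using hR
  obtain ⟨s', hs'⟩ := exists_glue F W hd hc t
  refine ⟨s', ?_⟩
  refine ((isSheaf_iff_isSheaf_of_type _ _).1 G.property _ (ofArrows_opens_mem W hc)).isSeparatedFor.ext ?_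
  rintro Z f ⟨Y, a, b, ⟨k⟩, rfl⟩
  rw [op_comp, Functor.map_comp, ConcreteCategory.comp_apply, ConcreteCategory.comp_apply]
  refine congrArg _ ?_
  rw [← NatTrans.naturality_apply, hs' k]
  exact ht k

/-- Refine a covering sieve of an affine object to a finite jointly surjective affine family. -/
theorem exists_refine {U : X.ProEt} [IsAffine U.left] {R : Sieve U} (hR : R ∈ Scheme.ProEt.topology X U) :
    ∃ (n : ℕ) (V : Fin n → X.ProEt) (g : ∀ k, V k ⟶ U),
      (∀ k, IsAffine (V k).left ∧ R (g k)) ∧ ∀ x : U.left, ∃ k, x ∈ Set.range (g k).left := by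
  obtain ⟨n, V, g, h, hc⟩ := (Groth.Agent.S7284.finitary_proEt X).refine' U inferInstance R hR
  refine ⟨n, V, g, h, fun x => ?_⟩
  have h2 := (MorphismProperty.coverPreserving_comap_forget (S := X) Scheme.proetalePrecoverage
      Scheme.proetalePrecoverage_le_precoverage_weaklyEtale).cover_preserve hc
  rw [GrothendieckTopology.mem_over_iff] at h2
  obtain ⟨R₀, hR₀, hle⟩ := Precoverage.mem_toGrothendieck_iff_of_isStableUnderComposition.1 h2
  obtain ⟨𝒱, rfl⟩ := R₀.exists_eq_preZeroHypercover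
  obtain ⟨i, y, rfl⟩ := ((Scheme.presieve₀_mem_precoverage_iff _).1 hR₀.2).1 x
  obtain ⟨Y, g₀, h₀, ⟨_, a, b, ⟨k⟩, rfl⟩, he⟩ :=
    (Sieve.overEquiv_iff _ _).1 (hle _ _ (Presieve.ofArrows.mk i : 𝒱.presieve₀ (𝒱.f i)))
  refine ⟨k, (h₀.left ≫ a.left) y, ?_⟩
  have he' : 𝒱.f i = (h₀.left ≫ a.left) ≫ (g k).left := by
    rw [Category.assoc]
    exact congrArg (fun t => t.left) he
  exact (congrArg (fun m => m y) he').symm

/-- A morphism of affine schemes which is weakly étale gives a weakly étale ring map. -/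
theorem weaklyEtale_appTop {U V : Scheme.{u}} [IsAffine U] [IsAffine V] (f : V ⟶ U) [WeaklyEtale f] :
    letI := f.appTop.hom.toAlgebra
    Algebra.WeaklyEtale Γ(U, ⊤) Γ(V, ⊤) := by
  have h := WLocalLib.weaklyEtale_appLE f (isAffineOpen_top U) (isAffineOpen_top V) (le_rfl)
  have e : f.appLE ⊤ ⊤ (le_rfl) = f.appTop := Scheme.Hom.appLE_eq_app f
  rw [e] at h
  exact h

theorem splits_of_isWContractible {U : X.ProEt} [IsAffine U.left]
    (h : EtPBC.IsWContractible ↥(Γ(U.left, ⊤))) : Splits U := by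
  intro R hR
  obtain ⟨n, V, g, hV, hs⟩ := exists_refine hR
  haveI : ∀ k, IsAffine (V k).left := fun k => (hV k).1
  haveI : ∀ k, WeaklyEtale (g k).left := fun k => weaklyEtale_left (g k)
  let P : ULift.{u} (Fin n) → Scheme.{u} := fun k => (V k.down).left
  haveI : ∀ k, IsAffine (P k) := fun k => (hV k.down).1
  let f : ∐ P ⟶ U.left := Sigma.desc fun k => (g k.down).left
  haveI : WeaklyEtale f := IsZariskiLocalAtSource.sigmaDesc (P := @WeaklyEtale) fun k => weaklyEtale_left (g k.down)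
  letI := f.appTop.hom.toAlgebra
  have hflat : (Spec.map f.appTop).base.hom.1 = PrimeSpectrum.comap f.appTop.hom := rfl
  haveI hwe := weaklyEtale_appTop f
  haveI : Module.Flat ↥(Γ(U.left, ⊤)) ↥(Γ(∐ P, ⊤)) := hwe.flat
  haveI : Surjective f := ⟨fun x => by
    obtain ⟨k, y, rfl⟩ := hs x
    refine ⟨Sigma.ι P ⟨k⟩ y, ?_⟩
    change (Sigma.ι P ⟨k⟩ ≫ f) y = _
    rw [Sigma.ι_desc]⟩
  haveI : Module.FaithfullyFlat ↥(Γ(U.left, ⊤)) ↥(Γ(∐ P, ⊤)) := Module.FaithfullyFlat.of_comap_surjective fun p => by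
    obtain ⟨x, hx⟩ := U.left.isoSpec.hom.homeomorph.surjective p
    obtain ⟨y, hy⟩ := f.surjective x
    refine ⟨(∐ P).isoSpec.hom y, ?_⟩
    have hn : (∐ P).isoSpec.hom ≫ Spec.map f.appTop = f ≫ U.left.isoSpec.hom :=
      Scheme.isoSpec_hom_naturality f
    have e2 := congrArg (fun m => m y) hn
    refine (show PrimeSpectrum.comap f.appTop.hom ((∐ P).isoSpec.hom y) = p from ?_)
    rw [← hx]
    exact e2.trans (congrArg U.left.isoSpec.hom hy)
  obtain ⟨r⟩ := h _ inferInstance hwe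
  let s : U.left ⟶ ∐ P := U.left.isoSpec.hom ≫ Spec.map (CommRingCat.ofHom r.toRingHom) ≫ (∐ P).isoSpec.inv
  have hsf : s ≫ f = 𝟙 U.left := by
    rw [← cancel_mono U.left.isoSpec.hom, Category.assoc, ← Scheme.isoSpec_hom_naturality f]
    simp only [s, Category.assoc, Iso.inv_hom_id_assoc]
    rw [← Spec.map_comp, show f.appTop ≫ CommRingCat.ofHom r.toRingHom = 𝟙 _ from
      CommRingCat.hom_ext (RingHom.ext fun a => r.commutes a), Spec.map_id]
    simp
  let W : Fin n → U.left.Opens := fun k => s ⁻¹ᵁ (Sigma.ι P ⟨k⟩).opensRange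
  refine ⟨n, W, fun k => ?_, fun k l hkl => ?_, ?_, fun k => ?_⟩
  · refine (IsClopen.preimage ⟨?_, (Sigma.ι P ⟨k⟩).opensRange.2⟩ s.continuous)
    refine ⟨?_⟩
    change IsOpen ((Sigma.ι P ⟨k⟩).opensRange : Set ↥(∐ P))ᶜ
    rw [show ((Sigma.ι P ⟨k⟩).opensRange : Set ↥(∐ P))ᶜ =
      ⋃ l ∈ {l : ULift.{u} (Fin n) | l ≠ ⟨k⟩}, Set.range (Sigma.ι P l) from ?_]
    · exact isOpen_biUnion fun l _ => (Sigma.ι P l).opensRange.2
    ext z
    obtain ⟨l, z', rfl⟩ := (sigmaOpenCover P).exists_eq z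
    simp only [Set.mem_compl_iff, Set.mem_iUnion, Set.mem_ofPred_eq]
    constructor
    · intro hz
      exact ⟨l, fun e => hz (e ▸ ⟨z', rfl⟩), ⟨z', rfl⟩⟩
    · rintro ⟨m, hm, hz⟩ hk
      exact Set.disjoint_left.1 (TopologicalSpace.Opens.coe_disjoint.2 (disjoint_opensRange_sigmaι P m ⟨k⟩ hm)) hz hk
  · exact (TopologicalSpace.Opens.coe_disjoint.2
      (disjoint_opensRange_sigmaι P ⟨k⟩ ⟨l⟩ fun e => hkl (congrArg ULift.down e))).preimage s
  · refine Set.eq_univ_of_forall fun x => ?_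
    obtain ⟨l, z', hz⟩ := (sigmaOpenCover P).exists_eq (s x)
    exact Set.mem_iUnion.2 ⟨l.down, ⟨z', hz⟩⟩
  · let q : (W k).toScheme ⟶ (V k).left :=
      (s ∣_ (Sigma.ι P ⟨k⟩).opensRange) ≫ (Sigma.ι P ⟨k⟩).isoOpensRange.inv
    have hq : q ≫ (g k).left = (W k).ι := by
      rw [show (g k).left = Sigma.ι P ⟨k⟩ ≫ f from (Sigma.ι_desc (fun j : ULift.{u} (Fin n) => (g j.down).left) ⟨k⟩).symm]
      simp only [q, Category.assoc]
      rw [Scheme.Hom.isoOpensRange_inv_comp_assoc, morphismRestrict_ι_assoc, hsf, Category.comp_id]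
    have hw : q ≫ (V k).hom = (W k).ι ≫ U.hom := by
      rw [← show (g k).left ≫ U.hom = (V k).hom from Over.w (g k).hom, ← Category.assoc, hq]
    have e : opIncl U (W k) = (MorphismProperty.Over.homMk q hw : opObj U (W k) ⟶ V k) ≫ g k := by
      apply (Scheme.ProEt.forget X ⋙ Over.forget X).map_injective
      exact hq.symm
    rw [e]
    exact R.downward_closed (hV k).2 _

theorem isWC_of_isWContractible {U : X.ProEt} [IsAffine U.left]
    (h : EtPBC.IsWContractible ↥(Γ(U.left, ⊤))) : ProEtS.IsWC U :=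
  isWC_of_splits (splits_of_isWContractible h)

/-- The splitting property descends to w-contractibility of the ring. -/
theorem isWContractible_of_hasSection {U : X.ProEt} [IsAffine U.left]
    (h : ∀ (V : X.ProEt) (g : V ⟶ U), IsAffine V.left → Surjective g.left → ∃ s : U.left ⟶ V.left, s ≫ g.left = 𝟙 _) :
    EtPBC.IsWContractible ↥(Γ(U.left, ⊤)) := by
  intro B _ _ hff hwe
  let f : Spec (CommRingCat.of B) ⟶ U.left :=
    Spec.map (CommRingCat.ofHom (algebraMap ↥(Γ(U.left, ⊤)) B)) ≫ U.left.isoSpec.inv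
  haveI : WeaklyEtale (Spec.map (CommRingCat.ofHom (algebraMap ↥(Γ(U.left, ⊤)) B))) :=
    { flat := (HasRingHomProperty.Spec_iff (P := @Flat)).2 (RingHom.flat_algebraMap_iff.2 hwe.flat)
      flat_diagonal := by
        rw [diagonal_SpecMap, MorphismProperty.cancel_right_of_respectsIso @Flat,
          HasRingHomProperty.Spec_iff (P := @Flat)]
        exact hwe.flat_lmul' }
  haveI : WeaklyEtale f := inferInstance
  let V : X.ProEt := Scheme.ProEt.mk (f ≫ U.hom)
  let g : V ⟶ U := MorphismProperty.Over.homMk f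
  haveI : Surjective (Spec.map (CommRingCat.ofHom (algebraMap ↥(Γ(U.left, ⊤)) B))) :=
    ⟨PrimeSpectrum.comap_surjective_of_faithfullyFlat⟩
  obtain ⟨s, hs⟩ := h V g (inferInstanceAs (IsAffine (Spec _))) (inferInstanceAs (Surjective f))
  let r : CommRingCat.of B ⟶ Γ(U.left, ⊤) := Spec.preimage (U.left.isoSpec.inv ≫ s)
  refine ⟨AlgHom.mk r.hom fun a => ?_⟩
  have e : CommRingCat.ofHom (algebraMap ↥(Γ(U.left, ⊤)) B) ≫ r = 𝟙 _ := by
    apply Spec.map_injective
    rw [Spec.map_comp, Spec.map_preimage, Spec.map_id]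
    apply (cancel_mono U.left.isoSpec.inv).1
    simp only [Category.assoc]
    exact ((congrArg (fun t => U.left.isoSpec.inv ≫ t) hs).trans (Category.comp_id _)).trans
      (Category.id_comp _).symm
  exact RingHom.congr_fun (congrArg CommRingCat.Hom.hom e) a

theorem singleton_mem {U V : X.ProEt} [IsAffine U.left] [IsAffine V.left] (g : V ⟶ U) [Surjective g.left] :
    Sieve.generate (Presieve.singleton g) ∈ Scheme.ProEt.topology X U := by
  have h := Groth.Agent.S7284.covering_of_finite_affine (inferInstance : IsAffine U.left)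
    (V := fun _ : PUnit.{u + 1} => V) (fun _ => inferInstance) (fun _ => g)
    (fun x => ⟨⟨⟩, g.left.surjective x⟩)
  rwa [Sieve.ofArrows, Presieve.ofArrows_pUnit] at h

theorem hasSection_of_splits {U : X.ProEt} [IsAffine U.left] (hS : Splits U) (V : X.ProEt) (g : V ⟶ U)
    (hV : IsAffine V.left) (hg : Surjective g.left) : ∃ s : U.left ⟶ V.left, s ≫ g.left = 𝟙 _ := by
  haveI := hV
  haveI := hg
  obtain ⟨n, W, -, hd, hc, hR⟩ := hS _ (singleton_mem g)
  have hh : ∀ k, ∃ a : (W k).toScheme ⟶ V.left, a ≫ g.left = (W k).ι := fun k => by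
    obtain ⟨Y, a, b, ⟨⟩, e⟩ := hR k
    exact ⟨a.left, congrArg (fun t => t.left) e⟩
  choose a ha using hh
  let 𝒰 : U.left.OpenCover := Scheme.Cover.mkOfCovers (Fin n) (fun k => (W k).toScheme) (fun k => (W k).ι)
    (fun x => by
      obtain ⟨k, hk⟩ := Set.mem_iUnion.1 (hc.symm ▸ Set.mem_univ x : x ∈ ⋃ k, (W k : Set ↥U.left))
      exact ⟨k, ⟨x, hk⟩, rfl⟩)
    (fun k => inferInstance)
  have hcomp : ∀ k l : Fin n, pullback.fst (W k).ι (W l).ι ≫ a k = pullback.snd (W k).ι (W l).ι ≫ a l := by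
    intro k l
    rcases eq_or_ne k l with rfl | hkl
    · rw [show pullback.fst (W k).ι (W k).ι = pullback.snd (W k).ι (W k).ι from
        (cancel_mono (W k).ι).1 pullback.condition]
    · haveI : IsEmpty ↥(pullback (W k).ι (W l).ι) := ⟨fun z => Set.disjoint_left.1 (hd hkl)
        ((pullback.fst (W k).ι (W l).ι) z).2 (by
          have e' := congrArg (fun m => m z) (pullback.condition (f := (W k).ι) (g := (W l).ι))
          change ((pullback.fst (W k).ι (W l).ι) z).1 = ((pullback.snd (W k).ι (W l).ι) z).1 at e'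
          rw [e']
          exact ((pullback.snd (W k).ι (W l).ι) z).2)⟩
      exact isInitialOfIsEmpty.hom_ext _ _
  refine ⟨𝒰.glueMorphisms a hcomp, 𝒰.hom_ext _ _ fun k => ?_⟩
  rw [Scheme.Cover.ι_glueMorphisms_assoc, Category.comp_id]
  exact ha k

theorem isWContractible_iff_splits {U : X.ProEt} [IsAffine U.left] :
    EtPBC.IsWContractible ↥(Γ(U.left, ⊤)) ↔ Splits U :=
  ⟨splits_of_isWContractible, fun h => isWContractible_of_hasSection (hasSection_of_splits h)⟩

theorem hasSection_of_isWC {U : X.ProEt} [IsAffine U.left] (hU : ProEtS.IsWC U) (V : X.ProEt) (g : V ⟶ U)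
    (hV : IsAffine V.left) (hg : Surjective g.left) : ∃ s : U.left ⟶ V.left, s ≫ g.left = 𝟙 _ := by
  haveI := hV
  haveI := hg
  let J := Scheme.ProEt.topology X
  let φ := (GrothendieckTopology.uliftYoneda.{u + 1} J).map g
  haveI : Sheaf.IsLocallySurjective φ := by
    refine ⟨fun {Z} b => GrothendieckTopology.superset_covering _ ?_
      (J.pullback_stable (ULift.down b) (singleton_mem g))⟩
    rintro W f ⟨Y, a, _, ⟨⟩, e⟩
    exact ⟨ULift.up a, congrArg ULift.up e⟩
  obtain ⟨s, hs⟩ := hU _ _ φ ((Sheaf.isLocallySurjective_iff_epi' _ φ).1 inferInstance) (ULift.up (𝟙 U))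
  exact ⟨(ULift.down s).left, congrArg (fun t => (ULift.down t).left) hs⟩

theorem isWContractible_iff_isWC {U : X.ProEt} [IsAffine U.left] :
    EtPBC.IsWContractible ↥(Γ(U.left, ⊤)) ↔ ProEtS.IsWC U :=
  ⟨isWC_of_isWContractible, fun h => isWContractible_of_hasSection (hasSection_of_isWC h)⟩

end Groth.Agent.ProEtWC
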